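import Cfsg.Agent.H84.TwF4Cover
import Cfsg.Agent.H210.TC.Row
import Cfsg.Agent.H494.TC.Base

/-!
# `²F₄(q)`, `q ≥ 32`: a class of elements of prime order `r ∣ q - 1`, `r ≥ 11` (S2452)

* `pp_2f4 : PP`, `row3_2f4 : Row3` for `↥(twistedF4 K (2 ^ m))`, `|K| = 2 ^ (2 m + 1)`, `2 ≤ m`.
-/

set_option autoImplicit false
set_option linter.unusedSectionVars false

namespace Cfsg.Agent.H84.SzLevi

open Cfsg.Agent.LieRecognition.SzMatrix
open Cfsg

/-- In a Suzuki group each element is a product of two conjugates of any given `s` of order at least five. -/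
theorem sz_cover' {P : Type*} [Group P] (h : Lie.IsoSuzuki P) {s : P} (hs : 5 ≤ orderOf s) :
    ∀ l : P, ∃ a b : P, l = (a * s * a⁻¹) * (b * s * b⁻¹) := by
  obtain ⟨F, _, _, m, hm, hF, ⟨f⟩⟩ := h
  have hfin : Finite ↥(Cfsg.Lie.Sz F (2 ^ (m + 1))) := inferInstance
  obtain ⟨x, hx⟩ : ∃ x, x = f s := ⟨_, rfl⟩
  have hox : orderOf x = orderOf s := by rw [hx]; exact MulEquiv.orderOf_eq f s
  have key : ∀ l : ↥(Cfsg.Lie.Sz F (2 ^ (m + 1))), ∃ a b, l = (a * x * a⁻¹) * (b * x * b⁻¹) := by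
    intro l
    by_cases hl : l = 1
    · have hx1 : x ≠ 1 := by
        intro h
        rw [h, orderOf_one] at hox
        omega
      rcases Cfsg.Agent.H147.Sz.real hm hF x hx1 with ⟨-, i, -, hi, h⟩ | ⟨a, b, h⟩
      · refine ⟨1, i, ?_⟩
        have hii : i⁻¹ = i := inv_eq_of_mul_eq_one_left hi
        rw [hl, hii, h]; group
      · exfalso
        obtain ⟨c, hc⟩ := isConj_iff.1 h
        have h4 : (good hF).u a b ^ 4 = 1 := by
          rw [four_eq, Cfsg.Agent.H147.Sz.u_sq, Cfsg.Agent.H147.Sz.u_sq, zero_mul, (good hF).u_zero]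
        rw [← hc, conj_pow] at h4
        have h5 : x ^ 4 = 1 := by
          have e : x ^ 4 = c⁻¹ * (c * x ^ 4 * c⁻¹) * c := by group
          rw [e, h4]; group
        have h6 := Nat.le_of_dvd (by norm_num) (orderOf_dvd_of_pow_eq_one h5)
        omega
    · exact Cfsg.Agent.S2457.result m hm hF x (by omega) l hl
  intro l
  obtain ⟨a, b, hab⟩ := key (f l)
  refine ⟨f.symm a, f.symm b, ?_⟩
  have := congrArg f.symm hab
  rw [hx] at this
  simpa using this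

end Cfsg.Agent.H84.SzLevi

namespace Cfsg.Agent.H84.TF5

/-- a prime divisor `≥ 11` -/
theorem exists_r {m : ℕ} (hm : 2 ≤ m) : ∃ r : ℕ, r.Prime ∧ 11 ≤ r ∧ r ∣ 2 ^ (2 * m + 1) - 1 := by
  by_contra hcon
  push Not at hcon
  have hpow : 2 ^ (2 * m + 1) = 2 * 4 ^ m := by rw [pow_succ, pow_mul]; norm_num [mul_comm]
  have h3 : 4 ^ m % 3 = 1 := by rw [Nat.pow_mod]; norm_num
  have h16 : 16 ∣ 4 ^ m := by
    obtain ⟨k, rfl⟩ := Nat.exists_eq_add_of_le hm
    rw [pow_add]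
    exact Dvd.intro _ rfl
  have h5 := Cfsg.Agent.H84.TwF4Cover.five_not_dvd m
  have hge : 1 ≤ 4 ^ m := Nat.one_le_pow _ _ (by norm_num)
  rw [hpow] at h5 hcon
  obtain ⟨k16, hk16⟩ := h16
  have h7 : ∀ {p : ℕ}, p.Prime → p ∣ 2 * 4 ^ m - 1 → p = 7 := by
    intro p hp hd
    have hlt : p < 11 := by
      by_contra h
      exact hcon p hp (not_lt.1 h) hd
    have h2 := hp.two_le
    interval_cases p
    · exfalso; omega
    · exfalso; omega
    · exact absurd hp (by norm_num)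
    · exact absurd hd h5
    · exact absurd hp (by norm_num)
    · rfl
    · exact absurd hp (by norm_num)
    · exact absurd hp (by norm_num)
    · exact absurd hp (by norm_num)
  have h := Nat.eq_prime_pow_of_unique_prime_dvd (n := 2 * 4 ^ m - 1) (p := 7) (by omega) h7
  generalize (2 * 4 ^ m - 1).primeFactorsList.length = k at h
  have hk : 7 ^ k % 16 = 1 ∨ 7 ^ k % 16 = 7 := by
    clear h
    induction k with
    | zero => left; norm_num
    | succ n ih =>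
      rw [pow_succ, Nat.mul_mod]
      rcases ih with ih | ih <;> rw [ih] <;> norm_num
  omega

theorem avoid {H : Type*} [Fintype H] (h : 7 < Fintype.card H) (P : Fin 7 → H → Prop)
    (hP : ∀ i x y, P i x → P i y → x = y) : ∃ x, ∀ i, ¬ P i x := by
  by_contra hcon
  push Not at hcon
  choose f hf using hcon
  have hinj : Function.Injective f := fun x y e => hP (f x) x y (hf x) (by rw [e]; exact hf y)
  have := Fintype.card_le_of_injective f hinj
  rw [Fintype.card_fin] at this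
  omega

end Cfsg.Agent.H84.TF5

namespace Cfsg.Agent.H84.GaussTwF4

open Cfsg.Agent.SplitTwo Cfsg.Agent.SplitTwo.ZS Cfsg.Agent.TitsThree.RankTwoZ
open Cfsg.Agent.KFacts.TwF4 Cfsg.Agent.KFacts.TwF4.Arc Cfsg.Agent.KFacts.TwF4.Inv
open Cfsg.Agent.H84.TwF4Two

universe u

variable {F : Type*} [Field F] {σ : F →+* F} {G : Type u} [Group G]

section cov

variable {S : Full σ G}

theorem LL_cover' [Finite F] [Finite G] {k : ℕ} (hk : 2 ≤ k) (hF : Nat.card F = 2 ^ k) {s : G} (hs : s ∈ LL S)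
    (h5 : 5 ≤ orderOf s) : ∀ l ∈ LL S, ∃ a ∈ LL S, ∃ b ∈ LL S, l = (a * s * a⁻¹) * (b * s * b⁻¹) := by
  have h := LL_iso S hk hF
  rw [LJ_eq] at h
  intro l hl
  obtain ⟨a, b, hab⟩ := Cfsg.Agent.H84.SzLevi.sz_cover' h (s := ⟨s, hs⟩) (by rw [Subgroup.orderOf_mk]; exact h5) ⟨l, hl⟩
  exact ⟨a, a.2, b, b.2, congrArg Subtype.val hab⟩

theorem fixX' {c d : Fˣ} (hO : ∀ a, chO σ a c d ≠ 1) (hE : ∀ a, chE σ a c d ≠ 1) {k : ℤ} {x : G} (hx : x ∈ S.XZ k)
    (h : S.h c d * x = x * S.h c d) : x = 1 := by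
  rcases Int.even_or_odd' k with ⟨a, rfl | rfl⟩
  · obtain ⟨p, u, rfl⟩ := (S.mem_XZ_even a x).1 hx
    exact fix_e (hE _) h
  · obtain ⟨s, rfl⟩ := (S.mem_XZ_odd a x).1 hx
    exact fix_o (hO _) h

theorem cover2 [Finite F] [Finite G] {s : G} (hs : s ∈ LL S)
    (hcov : ∀ l ∈ LL S, ∃ a ∈ LL S, ∃ b ∈ LL S, l = (a * s * a⁻¹) * (b * s * b⁻¹)) {d : Fˣ}
    (h17 : ∀ a ∈ J S.XZ 1 7, (s * S.h 1 d) * a = a * (s * S.h 1 d) → a = 1)
    (h915 : ∀ a ∈ J S.XZ 9 15, (s * S.h 1 d) * a = a * (s * S.h 1 d) → a = 1) {g : G}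
    (hg : g ≠ 1) : ∃ u v : G, g = (u * (s * S.h 1 d) * u⁻¹) * (v * (s * S.h 1 d) * v⁻¹) := by
  have hc := h_comm_LL d hs
  have hT : S.h 1 d ∈ S.T := S.mem_T.2 ⟨_, _, rfl⟩
  have hn1 : ∀ a ∈ J S.XZ 1 7, (s * S.h 1 d) * a * (s * S.h 1 d)⁻¹ ∈ J S.XZ 1 7 := by
    intro a ha
    have e : (s * S.h 1 d) * a * (s * S.h 1 d)⁻¹ = s * (S.h 1 d * a * (S.h 1 d)⁻¹) * s⁻¹ := by group
    rw [e]
    exact LL_conj17 hs (S.T_conj_J hT ha)
  have hn9 : ∀ a ∈ J S.XZ 9 15, (s * S.h 1 d) * a * (s * S.h 1 d)⁻¹ ∈ J S.XZ 9 15 := by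
    intro a ha
    have e : (s * S.h 1 d) * a * (s * S.h 1 d)⁻¹ = s * (S.h 1 d * a * (S.h 1 d)⁻¹) * s⁻¹ := by group
    rw [e]
    exact LL_conj915 hs (S.T_conj_J hT ha)
  obtain ⟨v, hv, l, hl, u, hu, k, hk⟩ := gd (S := S) hg (d * d)
  obtain ⟨a, ha, b, hb, rfl⟩ := hcov l hl
  have ca := h_comm_LL d ha
  have cb := h_comm_LL d hb
  have hzz : S.h 1 (d * d) = S.h 1 d * S.h 1 d := by rw [S.h_mul, one_mul]
  rw [hzz] at hk
  have hv' : a⁻¹ * v * a ∈ J S.XZ 9 15 := by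
    have := LL_conj915 (inv_mem ha) hv
    rwa [inv_inv] at this
  have hu' : b⁻¹ * u * b ∈ J S.XZ 1 7 := by
    have := LL_conj17 (inv_mem hb) hu
    rwa [inv_inv] at this
  obtain ⟨p, -, hp⟩ := conj_of_fpf (A := J S.XZ 9 15) hn9 h915 hv'
  obtain ⟨q, -, hq⟩ := conj_of_fpf' (A := J S.XZ 1 7) hn1 h17 hu'
  generalize S.h 1 d = z at *
  have e1 : v * (a * s * a⁻¹ * (b * s * b⁻¹) * (z * z)) * u =
      (a * (a⁻¹ * v * a * (s * z)) * a⁻¹) * (b * (s * z * (b⁻¹ * u * b)) * b⁻¹) := by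
    have c1 : Commute z a := ca
    have c2 : Commute z b := cb
    have c3 : Commute z s := hc
    have c4 : z * (a⁻¹ * b * s * b⁻¹) = (a⁻¹ * b * s * b⁻¹) * z :=
      (((c1.inv_right.mul_right c2).mul_right c3).mul_right c2.inv_right).eq
    have c5 : z * b⁻¹ = b⁻¹ * z := c2.inv_right.eq
    calc v * (a * s * a⁻¹ * (b * s * b⁻¹) * (z * z)) * u = v * a * s * ((a⁻¹ * b * s * b⁻¹) * z) * z * u := by group
      _ = v * a * s * (z * (a⁻¹ * b * s * b⁻¹)) * z * u := by rw [c4]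
      _ = v * a * (s * z) * a⁻¹ * b * s * (b⁻¹ * z) * u := by group
      _ = v * a * (s * z) * a⁻¹ * b * s * (z * b⁻¹) * u := by rw [c5]
      _ = _ := by group
  rw [e1, hp, hq] at hk
  refine ⟨k⁻¹ * a * p, k⁻¹ * b * q, ?_⟩
  have e2 : g = k⁻¹ * (k * g * k⁻¹) * k := by group
  rw [e2, hk]
  group

/-- a regular element of order `r` of the torus -/
theorem exists_reg [Finite F] (S : Full σ G) {r : ℕ} (hr : r.Prime) (h8 : 7 < r) (hd : r ∣ Nat.card Fˣ) :
    ∃ c d : Fˣ, c ≠ 1 ∧ c ^ r = 1 ∧ d ^ r = 1 ∧ (∀ a, chO σ a c d ≠ 1) ∧ (∀ a, chE σ a c d ≠ 1) := by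
  have : Fact r.Prime := ⟨hr⟩
  obtain ⟨c, hc⟩ := exists_prime_orderOf_dvd_card' r hd
  have hinj : Function.Injective (Units.map (σ : F →* F)) := by
    intro a b h
    exact Units.ext (σ.injective (congrArg Units.val h))
  have hinj2 : ∀ x y : Fˣ, x * Units.map (σ : F →* F) x = y * Units.map (σ : F →* F) y → x = y := by
    intro x y h
    have h1 : (x / y) * Units.map (σ : F →* F) (x / y) = 1 := by
      rw [map_div, div_mul_div_comm, h, div_self']
    exact div_eq_one.1 (S.unit_eq_one h1)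
  have hfin : Fintype ↥(Subgroup.zpowers c) := Fintype.ofFinite _
  have hcard : Fintype.card ↥(Subgroup.zpowers c) = r := by
    rw [← Nat.card_eq_fintype_card, Nat.card_zpowers, hc]
  let τ : Fˣ →* Fˣ := Units.map (σ : F →* F)
  obtain ⟨⟨d, hdm⟩, hx⟩ := TF5.avoid (H := ↥(Subgroup.zpowers c)) (by rw [hcard]; exact h8)
    (fun i x => (![(x : Fˣ) = 1, τ (x : Fˣ) = c, (x : Fˣ) = τ c, c * (x : Fˣ) = 1, (x : Fˣ) * τ (x : Fˣ) = c,
      (x : Fˣ) * τ (x : Fˣ) = c * τ c, (x : Fˣ) = τ c * c] : Fin 7 → Prop) i) (by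
      intro i x y h1 h2
      apply Subtype.ext
      fin_cases i
      · exact Eq.trans (b := (1 : Fˣ)) h1 (Eq.symm h2)
      · exact hinj (Eq.trans (b := c) h1 (Eq.symm h2))
      · exact Eq.trans (b := τ c) h1 (Eq.symm h2)
      · exact mul_left_cancel (a := c) (Eq.trans (b := (1 : Fˣ)) h1 (Eq.symm h2))
      · exact hinj2 _ _ (Eq.trans (b := c) h1 (Eq.symm h2))
      · exact hinj2 _ _ (Eq.trans (b := c * τ c) h1 (Eq.symm h2))
      · exact Eq.trans (b := τ c * c) h1 (Eq.symm h2))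
  have x0 : ¬ d = 1 := hx 0
  have x1 : ¬ τ d = c := hx 1
  have x2 : ¬ d = τ c := hx 2
  have x3 : ¬ c * d = 1 := hx 3
  have x4 : ¬ d * τ d = c := hx 4
  have x5 : ¬ d * τ d = c * τ c := hx 5
  have x6 : ¬ d = τ c * c := hx 6
  have hc1 : c ≠ 1 := by
    rintro rfl
    rw [orderOf_one] at hc
    omega
  have hcr : c ^ r = 1 := by rw [← hc]; exact pow_orderOf_eq_one c
  have hdr : d ^ r = 1 := by
    obtain ⟨n, rfl⟩ := Subgroup.mem_zpowers_iff.1 hdm
    rw [← zpow_natCast, ← zpow_mul, mul_comm, zpow_mul, zpow_natCast, hcr, one_zpow]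
  have e0 : chE σ 0 c d ≠ 1 := hc1
  have e1 : chE σ 1 c d ≠ 1 := x0
  have e2 : chE σ 2 c d ≠ 1 := fun h => x1 (div_eq_one.1 h)
  have e3 : chE σ 3 c d ≠ 1 := fun h => x2 (div_eq_one.1 h)
  have i4 : chE σ 4 c d = (chE σ 0 c d)⁻¹ := rfl
  have i5 : chE σ 5 c d = (chE σ 1 c d)⁻¹ := rfl
  have i6 : chE σ 6 c d = (chE σ 2 c d)⁻¹ := by rw [chE_six, chE_two, inv_div]
  have i7 : chE σ 7 c d = (chE σ 3 c d)⁻¹ := by rw [chE_seven, chE_three, inv_div]
  have o0 : chE σ 0 c d * chE σ 1 c d ≠ 1 := x3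
  have o1 : chE σ 1 c d * chE σ 2 c d ≠ 1 := fun h => x4 (by
    rw [chE_one, chE_two, mul_div_assoc'] at h
    exact div_eq_one.1 h)
  have o2 : chE σ 2 c d * chE σ 3 c d ≠ 1 := fun h => x5 (by
    rw [chE_three, chE_two, div_mul_div_comm] at h
    rw [mul_comm d]
    exact div_eq_one.1 h)
  have o3 : chE σ 3 c d * chE σ 4 c d ≠ 1 := fun h => x6 (by
    rw [chE_three, chE_four, ← div_eq_mul_inv, div_div] at h
    exact div_eq_one.1 h)
  refine ⟨c, d, hc1, hcr, hdr, ?_, ?_⟩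
  · intro a
    have key : ∀ n : ℕ, n < 8 → chO σ (n : ZMod 8) c d ≠ 1 := by
      intro n hn
      interval_cases n
      · exact o0
      · exact o1
      · exact o2
      · exact o3
      · show chE σ 4 c d * chE σ 5 c d ≠ 1
        rw [i4, i5, ← mul_inv]; exact inv_ne_one.2 o0
      · show chE σ 5 c d * chE σ 6 c d ≠ 1
        rw [i5, i6, ← mul_inv]; exact inv_ne_one.2 o1
      · show chE σ 6 c d * chE σ 7 c d ≠ 1
        rw [i6, i7, ← mul_inv]; exact inv_ne_one.2 o2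
      · show chE σ 7 c d * chE σ 0 c d ≠ 1
        have i0 : chE σ 0 c d = (chE σ 4 c d)⁻¹ := by rw [i4, inv_inv]
        rw [i7, i0, ← mul_inv]; exact inv_ne_one.2 o3
    have := key a.val (ZMod.val_lt a)
    rwa [ZMod.natCast_zmod_val] at this
  · intro a
    have key : ∀ n : ℕ, n < 8 → chE σ (n : ZMod 8) c d ≠ 1 := by
      intro n hn
      interval_cases n
      · exact e0
      · exact e1
      · exact e2
      · exact e3
      · show chE σ 4 c d ≠ 1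
        rw [i4]; exact inv_ne_one.2 e0
      · show chE σ 5 c d ≠ 1
        rw [i5]; exact inv_ne_one.2 e1
      · show chE σ 6 c d ≠ 1
        rw [i6]; exact inv_ne_one.2 e2
      · show chE σ 7 c d ≠ 1
        rw [i7]; exact inv_ne_one.2 e3
    have := key a.val (ZMod.val_lt a)
    rwa [ZMod.natCast_zmod_val] at this

theorem h_ne_one {c d : Fˣ} (hc : c ≠ 1) : S.h c d ≠ 1 := by
  intro h
  have h1 : S.e 0 1 0 = 1 := fix_e (S := S) (a := 0) (c := c) (d := d) hc (by rw [h, one_mul, mul_one])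
  rw [← S.e_zero 0] at h1
  exact one_ne_zero (S.injE 0 _ _ _ _ h1).1

theorem pp_full [Finite F] [Finite G] (S : Full σ G) {k : ℕ} (hk : 2 ≤ k) (hF : Nat.card F = 2 ^ k) {r : ℕ}
    (hr : r.Prime) (h11 : 11 ≤ r) (hd : r ∣ Nat.card Fˣ) : Cfsg.Agent.H494.TC.PP G := by
  have : Fact r.Prime := ⟨hr⟩
  obtain ⟨c, d, hc1, hcr, hdr, hO, hE⟩ := exists_reg S hr (by omega) hd
  have hinj : Function.Injective (Units.map (σ : F →* F)) := by
    intro a b h
    exact Units.ext (σ.injective (congrArg Units.val h))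
  obtain ⟨e, he⟩ := Finite.surjective_of_injective hinj c
  have her : e ^ r = 1 := hinj (by rw [map_pow, he, hcr, map_one])
  have hs : S.h c e ∈ LL S := by
    have := h_mem_LL (S := S) e
    rwa [he] at this
  have hso : orderOf (S.h c e) = r := orderOf_eq_prime (by rw [h_pow S, hcr, her, S.h_one]) (h_ne_one hc1)
  have hx : S.h c e * S.h 1 (e⁻¹ * d) = S.h c d := by rw [S.h_mul, mul_one, mul_inv_cancel_left]
  have hxo : orderOf (S.h c d) = r := orderOf_eq_prime (by rw [h_pow S, hcr, hdr, S.h_one]) (h_ne_one hc1)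
  have hT : S.h c d ∈ S.T := S.mem_T.2 ⟨_, _, rfl⟩
  refine ⟨S.h c d, by rw [hxo]; exact hr, ?_, fun g hg => ?_⟩
  · rw [hxo, show (6 : ℕ) = 2 * 3 by norm_num]
    exact Nat.Coprime.mul_right ((Nat.coprime_primes hr Nat.prime_two).2 (by omega))
      ((Nat.coprime_primes hr Nat.prime_three).2 (by omega))
  · have h := cover2 (S := S) hs (LL_cover' hk hF hs (by rw [hso]; omega)) (d := e⁻¹ * d)
      (by
        intro a ha h
        rw [hx] at h
        exact fix_J (a0 := 1) (b := 7) hT (by norm_num) (fun k _ _ x hx => fixX' hO hE hx) 7 1 le_rfl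
          (by norm_num) a ha h)
      (by
        intro a ha h
        rw [hx] at h
        exact fix_J (a0 := 9) (b := 15) hT (by norm_num) (fun k _ _ x hx => fixX' hO hE hx) 7 9 le_rfl
          (by norm_num) a ha h) hg
    rwa [hx] at h

end cov

end Cfsg.Agent.H84.GaussTwF4

namespace Cfsg.Agent.H84.TF5

open Cfsg.Agent.KFacts.TwF4 Cfsg.Agent.H84.GaussTwF4
open Cfsg.Agent.KFacts.TwF4.Inst Cfsg.Agent.ChevalleyStructure.TwF4.TwistedFix
open Cfsg.Lie

/-- `²F₄(q)`, `q ≥ 32` -/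
theorem pp_2f4 {K : Type*} [Field K] [Fintype K] {m : ℕ} (hm : 2 ≤ m) (hK : Fintype.card K = 2 ^ (2 * m + 1)) :
    Cfsg.Agent.H494.TC.PP ↥(twistedF4 K (2 ^ m)) := by
  have hchar := Cfsg.Agent.ChevalleyStructure.TwF4.Twisted.charP_two hK
  obtain ⟨φ, hφ⟩ := exists_rln hK
  have hfin : Finite (Matrix.GeneralLinearGroup chevF4.Idx K) := inferInstance
  obtain ⟨r, hr, h11, hd⟩ := exists_r hm
  have hcard : Nat.card Kˣ = 2 ^ (2 * m + 1) - 1 := by rw [Nat.card_units, Nat.card_eq_fintype_card, hK]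
  exact pp_full (full hK hφ) (k := 2 * m + 1) (by omega) (by rw [Nat.card_eq_fintype_card, hK]) hr h11
    (by rw [hcard]; exact hd)

/-- `²F₄(q)`, `q ≥ 32` -/
theorem row3_2f4 {K : Type*} [Field K] [Fintype K] {m : ℕ} (hm : 2 ≤ m) (hK : Fintype.card K = 2 ^ (2 * m + 1)) :
    Cfsg.Agent.H210.TC.Row3 ↥(twistedF4 K (2 ^ m)) := by
  obtain ⟨x, hx, hx6, h⟩ := pp_2f4 hm hK
  exact Cfsg.Agent.H210.TC.Row3.of_sq hx hx6 h

end Cfsg.Agent.H84.TF5
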